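/-
Constrained fusion systems: saturated subsystems over strongly closed subgroups and central
quotients are constrained.
-/
import Cfsg.Agent.FusionSolvable.Chain

set_option autoImplicit false

namespace CfsgLib.FusionConstrained

open Cfsg Cfsg.FusionSystem CfsgLib.Fusion
open CfsgLib.FusionFactor (isSaturated_factor)

variable {Ω : Type*} [Group Ω] {S T : Subgroup Ω} [Finite S] {p : ℕ} [Fact p.Prime]
  {F : FusionSystem S}

omit [Fact p.Prime] in
theorem isCentric_of_stronglyClosed {Q : Subgroup Ω} (hQ : F.StronglyClosed Q)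
    (hc : centralizerIn S Q ≤ Q) : F.IsCentric Q := by
  refine ⟨hQ.1, fun R hR => ?_⟩
  obtain ⟨φ, hφ, hr⟩ := hR
  have := finite_of_le hQ.1
  have hRQ : R = Q := by
    refine Subgroup.eq_of_le_of_card_ge ?_ (le_of_eq (card_eq_of_isConj ⟨φ, hφ, hr⟩))
    rw [← hr]
    rintro _ ⟨x, rfl⟩
    exact hQ.2 Q le_rfl φ hφ x
  rw [hRQ]
  exact hc

/-- The largest normal subgroup of a constrained system is centric. -/
theorem core_centralizer_le (h : F.IsConstrained p) : centralizerIn S F.core ≤ F.core := by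
  obtain ⟨-, Q, hQn, hQc⟩ := h
  have hle : Q ≤ F.core := le_sSup hQn
  exact (centralizerIn_anti hle).trans ((centralizerIn_le_of_centric hQc).trans hle)

/-- A saturated subsystem over a strongly closed subgroup of a constrained system is constrained. -/
theorem isConstrained_of_subsystem (hS : IsPGroup p S) (hF : F.IsConstrained p)
    {E : FusionSystem T} (hT : F.StronglyClosed T) (hEF : E.IsSubsystemOf F)
    (hE : E.IsSaturated p) : E.IsConstrained p := by
  have hQ := CfsgLib.FusionFactor.isNormal_core F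
  have hQC := core_centralizer_le hF
  set Q := F.core
  have hQsc := stronglyClosed_of_normal hQ
  set R := Q ⊓ T with hR
  have hRsc : F.StronglyClosed R := stronglyClosed_inf hQsc hT
  obtain ⟨n, L, hL0, hLn, hLm, hL⟩ := (isNormal_iff_series hS hF.1).1 hQ
  -- the series of the core cuts down to one of `R`
  have hser : ∀ i : Fin n, F.StronglyClosed (L i.succ ⊓ T) ∧
      ⁅R, L i.succ ⊓ T⁆ ≤ L (Fin.castSucc i) ⊓ T := fun i =>
    ⟨stronglyClosed_inf (hL i).1 hT, le_inf
      ((Subgroup.commutator_mono inf_le_left inf_le_left).trans (hL i).2)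
      ((Subgroup.commutator_mono inf_le_right inf_le_right).trans (Subgroup.commutator_le_self T))⟩
  have hRn : F.IsNormal R := (isNormal_iff_series hS hF.1).2 ⟨n, fun i => L i ⊓ T,
    by simp [hL0], by simp [hLn, hR], fun i j hij => inf_le_inf_right T (hLm hij), hser⟩
  set X := centralizerIn T R with hX
  have hXsc : F.StronglyClosed X := by
    refine ⟨inf_le_left.trans hT.1, fun P hP φ hφ x =>
      ⟨hT.2 P (hP.trans inf_le_left) φ hφ x, ?_⟩⟩
    obtain ⟨ψ, -, h1, h2⟩ := exists_normal_extension hRn hφ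
    show φ x ∈ Subgroup.centralizer (R : Set Ω)
    rw [Subgroup.mem_centralizer_iff]
    intro q hq
    obtain ⟨y, hy, rfl⟩ := h2.ge hq
    rw [← h1 x, ← map_mul, ← map_mul]
    exact congrArg ψ (Subtype.ext ((Subgroup.mem_centralizer_iff.1 (hP x.2).2) y hy))
  have hXS : X ≤ S := hXsc.1
  have hXQ : ⁅X, Q⁆ ≤ R := by
    rw [Subgroup.commutator_le]
    intro a ha b hb
    refine ⟨?_, ?_⟩
    · show a * b * a⁻¹ * b⁻¹ ∈ Q
      exact mul_mem (CfsgLib.FusionFactor.conj_mem_of_stronglyClosed hQsc (hXS ha) hb) (inv_mem hb)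
    · show a * b * a⁻¹ * b⁻¹ ∈ T
      rw [mul_assoc, mul_assoc]
      refine mul_mem ha.1 ?_
      rw [← mul_assoc]
      exact CfsgLib.FusionFactor.conj_mem_of_stronglyClosed hT (hQ.1 hb) (inv_mem ha.1)
  have hRX : ⁅R, X⁆ = ⊥ := by
    rw [Subgroup.commutator_eq_bot_iff_le_centralizer]
    intro r hr
    rw [Subgroup.mem_centralizer_iff]
    exact fun x hx => ((Subgroup.mem_centralizer_iff.1 hx.2) r hr).symm
  have hXX : ⁅X, X⁆ ≤ Q := by
    have h3 : ⁅⁅X, X⁆, Q⁆ = ⊥ := by
      refine Subgroup.commutator_commutator_eq_bot_of_rotate ?_ ?_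
      · rw [eq_bot_iff]
        refine (Subgroup.commutator_mono hXQ le_rfl).trans hRX.le
      · rw [eq_bot_iff, Subgroup.commutator_comm Q X]
        exact (Subgroup.commutator_mono hXQ le_rfl).trans hRX.le
    refine le_trans (le_inf ((Subgroup.commutator_le_self X).trans hXS) ?_) hQC
    exact Subgroup.commutator_eq_bot_iff_le_centralizer.1 h3
  have hXn : F.IsNormal X := by
    have hbot : F.StronglyClosed (⊥ : Subgroup Ω) := ⟨bot_le, fun A hA φ _ x => by
      rw [Subgroup.mem_bot, show x = 1 from Subtype.ext (Subgroup.mem_bot.1 (hA x.2)), map_one]⟩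
    refine (isNormal_iff_series hS hF.1).2 ⟨2, ![⊥, X ⊓ R, X], rfl, rfl, ?_, fun i => ?_⟩
    · intro i j hij
      fin_cases i <;> fin_cases j <;> simp_all
    · fin_cases i
      · refine ⟨stronglyClosed_inf hXsc hRsc, ?_⟩
        show ⁅X, X ⊓ R⁆ ≤ ⊥
        rw [Subgroup.commutator_comm]
        exact (Subgroup.commutator_mono inf_le_right le_rfl).trans hRX.le
      · refine ⟨hXsc, ?_⟩
        show ⁅X, X⁆ ≤ X ⊓ R
        exact le_inf (Subgroup.commutator_le_self X)
          (le_inf hXX ((Subgroup.commutator_le_self X).trans inf_le_left))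
  have hXR : X ≤ R := le_inf (le_sSup hXn) inf_le_left
  have := finite_of_le hT.1
  refine ⟨hE, R, (isNormal_iff_series (hS.to_le hT.1) hE).2 ⟨n, fun i => L i ⊓ T,
    by simp [hL0], by simp [hLn, hR], fun i j hij => inf_le_inf_right T (hLm hij), fun i => ⟨?_, (hser i).2⟩⟩, ?_⟩
  · exact CfsgLib.FusionSolvable.stronglyClosed_of_subsystem hEF hT (hL i).1
  · refine isCentric_of_stronglyClosed ?_ hXR
    exact CfsgLib.FusionSolvable.stronglyClosed_of_subsystem hEF hT hQsc

/-- A central quotient of a constrained system is constrained. -/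
theorem isConstrained_factor (hS : IsPGroup p S) (hF : F.IsConstrained p) {Z : Subgroup Ω}
    (hZ : F.StronglyClosed Z) (hZc : Z ≤ Subgroup.centralizer (S : Set Ω)) {Ω' : Type*} [Group Ω']
    {S' : Subgroup Ω'} {θ : S →* Ω'} {E : FusionSystem S'} (hE : F.IsFactorSystem Z θ E) :
    E.IsConstrained p := by
  have hQ := CfsgLib.FusionFactor.isNormal_core F
  have hQC := core_centralizer_le hF
  set Q := F.core
  have hQsc := stronglyClosed_of_normal hQ
  have : Finite S' := by
    rw [← hE.2.2.1]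
    exact Finite.of_surjective θ.rangeRestrict θ.rangeRestrict_surjective
  have hS' : IsPGroup p S' := by
    rw [← hE.2.2.1]
    exact hS.of_surjective θ.rangeRestrict θ.rangeRestrict_surjective
  have hEs := isSaturated_factor hS hF.1 hZ hE
  have hZab : ∀ z ∈ Z, ∀ x ∈ S, x * z = z * x := fun z hz x hx =>
    Subgroup.mem_centralizer_iff.1 (hZc hz) x hx
  have hZQ : Z ≤ Q := le_sSup (isNormal_of_abelian hS hF.1 hZ ⟨⟨fun a b =>
    Subtype.ext (hZab b b.2 a (hZ.1 a.2))⟩⟩)
  -- the elements centralizing the core modulo `Z`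
  set X := ((⊤ : Subgroup S) ⊓
    (Subgroup.centralizer (((Q.subgroupOf S).map θ : Subgroup Ω') : Set Ω')).comap θ).map
    S.subtype with hXdef
  have hmemX : ∀ x, x ∈ X ↔ ∃ hx : x ∈ S, ∀ q ∈ Q,
      x * q * x⁻¹ * q⁻¹ ∈ Z := by
    intro x
    constructor
    · rintro ⟨y, ⟨-, hy⟩, rfl⟩
      refine ⟨y.2, fun q hq => ?_⟩
      have h1 := Subgroup.mem_centralizer_iff.1 hy (θ ⟨q, hQ.1 hq⟩) ⟨⟨q, hQ.1 hq⟩, hq, rfl⟩
      refine (hE.2.1 (y * ⟨q, hQ.1 hq⟩ * y⁻¹ * ⟨q, hQ.1 hq⟩⁻¹)).1 ?_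
      simp only [map_mul, map_inv]
      rw [← h1]
      group
    · rintro ⟨hx, h⟩
      refine ⟨⟨x, hx⟩, ⟨Subgroup.mem_top _, ?_⟩, rfl⟩
      show θ ⟨x, hx⟩ ∈ Subgroup.centralizer _
      rw [Subgroup.mem_centralizer_iff]
      rintro _ ⟨q, hq, rfl⟩
      have h2 := (hE.2.1 (⟨x, hx⟩ * q * (⟨x, hx⟩ : S)⁻¹ * q⁻¹)).2 (h q hq)
      simp only [map_mul, map_inv] at h2
      rw [mul_inv_eq_one, mul_inv_eq_iff_eq_mul] at h2
      exact h2.symm
  have hXS : X ≤ S := fun x hx => ((hmemX x).1 hx).1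
  have hXsc : F.StronglyClosed X := by
    refine ⟨hXS, fun P hP φ hφ x => (hmemX _).2 ⟨apply_mem hφ x, fun q hq => ?_⟩⟩
    obtain ⟨ψ, hψ, h1, h2⟩ := exists_normal_extension hQ hφ
    obtain ⟨y, hy, rfl⟩ := h2.ge hq
    simp only [← h1 x, ← map_inv, ← map_mul]
    exact CfsgLib.FusionFactor.apply_mem_of_stronglyClosed hZ hψ (((hmemX _).1 (hP x.2)).2 y hy)
  have hXQc : ⁅X, Q⁆ ≤ Z := Subgroup.commutator_le.2 fun a ha b hb => ((hmemX a).1 ha).2 b hb
  have hZX : ⁅Z, X⁆ = ⊥ := by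
    rw [Subgroup.commutator_eq_bot_iff_le_centralizer]
    exact hZc.trans (Subgroup.centralizer_le hXS)
  have hXX : ⁅X, X⁆ ≤ Q := by
    have h3 : ⁅⁅X, X⁆, Q⁆ = ⊥ := by
      refine Subgroup.commutator_commutator_eq_bot_of_rotate ?_ ?_
      · rw [eq_bot_iff]
        exact (Subgroup.commutator_mono hXQc le_rfl).trans hZX.le
      · rw [eq_bot_iff, Subgroup.commutator_comm Q X]
        exact (Subgroup.commutator_mono hXQc le_rfl).trans hZX.le
    refine le_trans (le_inf ((Subgroup.commutator_le_self X).trans hXS) ?_) hQC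
    exact Subgroup.commutator_eq_bot_iff_le_centralizer.1 h3
  have hZleX : Z ≤ X := fun z hz => (hmemX z).2 ⟨hZ.1 hz, fun q hq => by
    rw [← hZab z hz q (hQ.1 hq), mul_inv_cancel_right, mul_inv_cancel]
    exact one_mem _⟩
  have hXn : F.IsNormal X := by
    refine (isNormal_iff_series hS hF.1).2 ⟨3, ![⊥, Z, X ⊓ Q, X], rfl, rfl, ?_, fun i => ?_⟩
    · intro i j hij
      fin_cases i <;> fin_cases j <;> simp_all
    · fin_cases i
      · refine ⟨hZ, ?_⟩
        show ⁅X, Z⁆ ≤ ⊥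
        rw [Subgroup.commutator_comm]
        exact hZX.le
      · refine ⟨stronglyClosed_inf hXsc hQsc, ?_⟩
        show ⁅X, X ⊓ Q⁆ ≤ Z
        exact (Subgroup.commutator_mono le_rfl inf_le_right).trans hXQc
      · refine ⟨hXsc, ?_⟩
        show ⁅X, X⁆ ≤ X ⊓ Q
        exact le_inf (Subgroup.commutator_le_self X) hXX
  have hXQ : X ≤ Q := le_sSup hXn
  obtain ⟨n, L, hL0, hLn, hLm, hL⟩ := (isNormal_iff_series hS hF.1).1 hQ
  refine ⟨hEs, (Q.subgroupOf S).map θ, (isNormal_iff_series hS' hEs).2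
    ⟨n, fun i => ((L i).subgroupOf S).map θ, by simp [hL0], by simp [hLn],
      fun i j hij => Subgroup.map_mono (fun x hx => hLm hij hx), fun i => ⟨?_, ?_⟩⟩, ?_⟩
  · exact CfsgLib.FusionSolvable.stronglyClosed_image hZ hE (hL i).1
  · rw [← Subgroup.map_commutator]
    refine Subgroup.map_mono ?_
    rw [Subgroup.commutator_le]
    exact fun a ha b hb => (hL i).2 (Subgroup.commutator_mem_commutator ha hb)
  · refine isCentric_of_stronglyClosed (CfsgLib.FusionSolvable.stronglyClosed_image hZ hE hQsc) ?_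
    rintro y ⟨hyS, hy⟩
    rw [← hE.2.2.1] at hyS
    obtain ⟨s, rfl⟩ := hyS
    exact ⟨s, hXQ ⟨s, ⟨Subgroup.mem_top _, hy⟩, rfl⟩, rfl⟩

end CfsgLib.FusionConstrained
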