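/-
Constrained fusion systems of groups pass to subnormal subgroups and to central quotients.
-/
import Cfsg.Agent.FusionConstrained.Inherit
import Cfsg.Agent.FusionResidual.Residual

set_option autoImplicit false

namespace CfsgLib.FusionConstrained

open Cfsg Cfsg.FusionSystem CfsgLib.Fusion
open CfsgLib.FusionFactor (mem_preimageAlong preimageAlong_le exists_induced)

variable {K M : Type*} [Group K] [Group M] {T N : Subgroup K}

/-- The system of `N` on `T`, pushed along a surjection `f` of `N`, is the group system of the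
image, when `g T g⁻¹` meets the preimage of the image only inside `T`. -/
theorem isFactorSystem_of_hom (hT : T ≤ N) (f : N →* M) (hf : Function.Surjective f)
    {Z : Subgroup K} (hZT : Z ≤ T)
    (hker : ∀ t : T, f (Subgroup.inclusion hT t) = 1 ↔ (t : K) ∈ Z)
    (hlift : ∀ (x : T) (g : N), f (g * Subgroup.inclusion hT x * g⁻¹) ∈
      (f.comp (Subgroup.inclusion hT)).range → (g : K) * x * (g : K)⁻¹ ∈ T) :
    (fusionSystemOfSubgroup N T hT).IsFactorSystem Z (f.comp (Subgroup.inclusion hT))
      (groupFusionSystem (f.comp (Subgroup.inclusion hT)).range) := by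
  refine ⟨hZT, hker, rfl, fun P' φ' => ⟨?_, ?_⟩⟩
  · rintro ⟨hP', hφ', m, hm⟩
    obtain ⟨g, rfl⟩ := hf m
    refine ⟨hP', ?_⟩
    have hval : ∀ (x : preimageAlong (f.comp (Subgroup.inclusion hT)) P'),
        ∃ hxT : (x : K) ∈ T, f (Subgroup.inclusion hT ⟨x, hxT⟩) ∈ P' := fun x =>
      mem_preimageAlong.1 x.2
    have hin : ∀ x : preimageAlong (f.comp (Subgroup.inclusion hT)) P',
        (g : K) * x * (g : K)⁻¹ ∈ T := by
      intro x
      obtain ⟨hxT, hxP⟩ := hval x
      refine hlift ⟨x, hxT⟩ g ?_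
      have h1 := hφ' ⟨_, hxP⟩
      rw [hm] at h1
      rw [map_mul, map_mul, map_inv]
      exact h1
    refine ⟨conjHom _ (g : K), ⟨preimageAlong_le _ _, hin, g, g.2, fun x => rfl⟩,
      preimageAlong_le _ _, hin, fun x => (hval x).2, fun x => ?_⟩
    rw [hm]
    show f g * f _ * (f g)⁻¹ = f _
    rw [← map_inv, ← map_mul, ← map_mul]
    rfl
  · rintro ⟨hP', φ, ⟨hP, hφT, g, hg, hgφ⟩, hP₁, hφS, hPP', hind⟩
    refine ⟨hP', fun y => ?_, f ⟨g, hg⟩, fun y => ?_⟩
    all_goals
      obtain ⟨t, ht⟩ : (y : M) ∈ (f.comp (Subgroup.inclusion hT)).range := hP' y.2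
      have hmem : (t : K) ∈ preimageAlong (f.comp (Subgroup.inclusion hT)) P' :=
        mem_preimageAlong.2 ⟨t.2, by rw [Subtype.coe_eta, ht]; exact y.2⟩
      rw [show y = ⟨_, hPP' ⟨t, hmem⟩⟩ from Subtype.ext ht.symm, hind ⟨t, hmem⟩]
    · exact ⟨_, rfl⟩
    · show f (Subgroup.inclusion hT _) = f ⟨g, hg⟩ * f _ * (f ⟨g, hg⟩)⁻¹
      rw [← map_inv, ← map_mul, ← map_mul]
      exact congrArg f (Subtype.ext (hgφ ⟨t, hmem⟩))

variable {p : ℕ} [Fact p.Prime] {G : Type*} [Group G] [Finite G]

/-- A normal subgroup of a group with constrained system has constrained system. -/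
theorem isConstrained_fusionSystemOfSubgroup (S : Sylow p G)
    (hF : (groupFusionSystem (S : Subgroup G)).IsConstrained p) (N : Subgroup G) [N.Normal]
    (h : (S : Subgroup G) ⊓ N ≤ N) :
    (fusionSystemOfSubgroup N ((S : Subgroup G) ⊓ N) h).IsConstrained p := by
  refine isConstrained_of_subsystem S.isPGroup' hF ⟨inf_le_left, ?_⟩ ?_ ?_
  · intro R hR φ hφ x
    obtain ⟨-, hφS, g, hg⟩ := hφ
    refine ⟨hφS x, ?_⟩
    rw [hg x]
    exact (inferInstance : N.Normal).conj_mem _ (hR x.2).2 g
  · rintro P φ ⟨hP, hφ, g, -, hg⟩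
    exact ⟨hP.trans inf_le_left, fun x => (hφ x).1, g, hg⟩
  · obtain ⟨T, hT⟩ := CfsgLib.FusionResidual.exists_sylow_inf S N
    refine isSaturated_of_realized (ι := Subgroup.inclusion h) ⟨Subgroup.inclusion_injective _,
      fun P hP φ hφ => ⟨?_, ?_⟩⟩ T ?_
    · rintro ⟨-, -, g, hg, he⟩
      exact ⟨⟨g, hg⟩, fun x => Subtype.ext (he x)⟩
    · rintro ⟨g, hg⟩
      exact ⟨hP, hφ, g, g.2, fun x => congrArg Subtype.val (hg x)⟩
    · rw [hT]
      ext x
      constructor
      · intro hx
        exact ⟨⟨x, hx, x.2⟩, rfl⟩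
      · rintro ⟨y, rfl⟩
        exact y.2.1

/-- Constrained systems pass to subnormal subgroups. -/
theorem isConstrained_subnormal (S : Sylow p G)
    (hF : (groupFusionSystem (S : Subgroup G)).IsConstrained p) {H : Subgroup G}
    (hH : H.IsSubnormal) :
    ∃ T : Sylow p H, (T : Subgroup H) = (S : Subgroup G).subgroupOf H ∧
      (groupFusionSystem (T : Subgroup H)).IsConstrained p := by
  induction hH with
  | top =>
    refine ⟨S.subtype le_top, rfl, ?_⟩
    let f : (⊤ : Subgroup G) →* (⊤ : Subgroup G) := MonoidHom.id _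
    have h := isFactorSystem_of_hom (T := (S : Subgroup G) ⊓ ⊤) (N := ⊤) inf_le_right f
      Function.surjective_id (Z := ⊥) bot_le
      (fun t => ⟨fun h => Subgroup.mem_bot.2 (congrArg Subtype.val h),
        fun h => Subtype.ext (Subgroup.mem_bot.1 h)⟩)
      (fun x g hx => by
        obtain ⟨y, hy⟩ := hx
        have e0 : (y : G) = (g : G) * x * (g : G)⁻¹ := congrArg Subtype.val hy
        rw [← e0]
        exact y.2)
    have h2 := isConstrained_factor (S.isPGroup'.to_le inf_le_left)
      (isConstrained_fusionSystemOfSubgroup S hF ⊤ inf_le_right)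
      (⟨bot_le, fun R hR φ _ x => by
          rw [Subgroup.mem_bot, show x = 1 from Subtype.ext (Subgroup.mem_bot.1 (hR x.2)), map_one]⟩)
      bot_le h
    have e1 : (f.comp (Subgroup.inclusion (inf_le_right : (S : Subgroup G) ⊓ ⊤ ≤ ⊤))).range =
        (S.subtype le_top : Subgroup (⊤ : Subgroup G)) := by
      ext x
      exact ⟨fun ⟨y, hy⟩ => hy ▸ y.2.1, fun hx => ⟨⟨x, hx, trivial⟩, rfl⟩⟩
    rwa [e1] at h2
  | step A B hAB hB hN ih =>
    obtain ⟨T, hT, hTc⟩ := ih
    let N := A.subgroupOf B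
    obtain ⟨T₁, hT₁⟩ := CfsgLib.FusionResidual.exists_sylow_inf T N
    let e : N ≃* A := Subgroup.subgroupOfEquivOfLe hAB
    have he : Function.Surjective e.toMonoidHom := e.surjective
    refine ⟨T₁.mapSurjective (f := e.toMonoidHom) he, ?_, ?_⟩
    · rw [Sylow.coe_mapSurjective he, hT₁, hT]
      ext x
      constructor
      · rintro ⟨y, hy, rfl⟩
        exact hy
      · intro hx
        exact ⟨e.symm x, hx, e.apply_symm_apply x⟩
    · have hbot : (fusionSystemOfSubgroup N ((T : Subgroup B) ⊓ N) inf_le_right).StronglyClosed ⊥ :=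
        ⟨bot_le, fun R hR φ _ x => by
          rw [Subgroup.mem_bot, show x = 1 from Subtype.ext (Subgroup.mem_bot.1 (hR x.2)), map_one]⟩
      have h := isFactorSystem_of_hom (T := (T : Subgroup B) ⊓ N) (N := N) inf_le_right
        e.toMonoidHom he (Z := ⊥) bot_le
        (fun t => ⟨fun h => Subgroup.mem_bot.2 (congrArg (fun a : N => (a : B))
            (e.injective (h.trans (map_one e).symm))),
          fun h => (congrArg e (Subtype.ext (Subgroup.mem_bot.1 h) :
            Subgroup.inclusion inf_le_right t = 1)).trans (map_one e)⟩)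
        (fun x g hx => by
          obtain ⟨y, hy⟩ := hx
          have e0 : (y : B) = (g : B) * x * (g : B)⁻¹ :=
            congrArg (fun a : N => (a : B)) (e.injective hy)
          rw [← e0]
          exact y.2)
      have h2 := isConstrained_factor (T.isPGroup'.to_le inf_le_left)
        (isConstrained_fusionSystemOfSubgroup T hTc N inf_le_right) hbot bot_le h
      have e1 : (e.toMonoidHom.comp (Subgroup.inclusion
          (inf_le_right : (T : Subgroup B) ⊓ N ≤ N))).range =
          (T₁.mapSurjective (f := e.toMonoidHom) he : Subgroup A) := by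
        rw [Sylow.coe_mapSurjective he, hT₁]
        ext x
        constructor
        · rintro ⟨y, rfl⟩
          exact ⟨Subgroup.inclusion inf_le_right y, y.2.1, rfl⟩
        · rintro ⟨y, hy, rfl⟩
          exact ⟨⟨y, hy, y.2⟩, rfl⟩
      rwa [e1] at h2

/-- Constrained systems pass to quotients by the centre. -/
theorem isConstrained_quotient_center (T : Sylow p G)
    (hF : (groupFusionSystem (T : Subgroup G)).IsConstrained p) :
    (groupFusionSystem ((T : Subgroup G).map (QuotientGroup.mk' (Subgroup.center G)))).IsConstrained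
      p := by
  set q := QuotientGroup.mk' (Subgroup.center G)
  let f : (⊤ : Subgroup G) →* G ⧸ Subgroup.center G := q.comp (⊤ : Subgroup G).subtype
  have hf : Function.Surjective f := fun y => by
    obtain ⟨x, hx⟩ := QuotientGroup.mk'_surjective _ y
    exact ⟨⟨x, trivial⟩, hx⟩
  set Z := (T : Subgroup G) ⊓ Subgroup.center G
  have hZle : Z ≤ (T : Subgroup G) ⊓ ⊤ := le_inf inf_le_left le_top
  have h := isFactorSystem_of_hom (T := (T : Subgroup G) ⊓ ⊤) (N := ⊤) inf_le_right f hf hZle
    (fun t => (QuotientGroup.eq_one_iff (t : G)).trans ⟨fun h => ⟨t.2.1, h⟩, fun h => h.2⟩)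
    (fun x g hx => by
      obtain ⟨y, hy⟩ := hx
      refine ⟨?_, trivial⟩
      set w := (g : G) * x * (g : G)⁻¹ with hw
      have hc : (y : G)⁻¹ * w ∈ Subgroup.center G := QuotientGroup.eq.1 hy
      -- `w` is a `p`-element normalizing `T`
      have hN : w ∈ Subgroup.normalizer ((T : Subgroup G) : Set G) := by
        have e : w = (y : G) * ((y : G)⁻¹ * w) := by group
        rw [e]
        exact mul_mem (Subgroup.le_normalizer y.2.1)
          (centralizer_le_normalizer' _ (Subgroup.center_le_centralizer _ hc))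
      obtain ⟨k, hk⟩ := isPGroup_iff_pow_pow_eq_one.1 T.isPGroup' ⟨x, x.2.1⟩
      have hwk : w ^ p ^ k = 1 := by
        rw [hw, conj_pow, show (x : G) ^ p ^ k = 1 from congrArg Subtype.val hk, mul_one,
          mul_inv_cancel]
      have hwp : IsPGroup p (Subgroup.zpowers w) := isPGroup_zpowers_of_pow_eq_one hwk
      exact ((IsPGroup.inf_normalizer_sylow hwp T).le ⟨Subgroup.mem_zpowers w, hN⟩).2)
  have hF' : (fusionSystemOfSubgroup (⊤ : Subgroup G) ((T : Subgroup G) ⊓ ⊤)
      inf_le_right).IsConstrained p :=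
    isConstrained_fusionSystemOfSubgroup T hF ⊤ inf_le_right
  have h2 := isConstrained_factor (T.isPGroup'.to_le inf_le_left) hF'
    ⟨hZle, fun R hR φ hφ x => by
      obtain ⟨-, -, g, -, hg⟩ := hφ
      have hz := Subgroup.mem_center_iff.1 (hR x.2).2 g
      rw [hg x, hz, mul_inv_cancel_right]
      exact hR x.2⟩
    (inf_le_right.trans (Subgroup.center_le_centralizer _)) h
  have e1 : (f.comp (Subgroup.inclusion (inf_le_right : (T : Subgroup G) ⊓ ⊤ ≤ ⊤))).range =
      (T : Subgroup G).map q := by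
    ext x
    exact ⟨fun ⟨y, hy⟩ => ⟨y, y.2.1, hy⟩, fun ⟨y, hy, hyx⟩ => ⟨⟨y, hy, trivial⟩, hyx⟩⟩
  rwa [e1] at h2

end CfsgLib.FusionConstrained
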